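import Mathlib.AlgebraicGeometry.Morphisms.FormallyUnramified
import Mathlib.AlgebraicGeometry.Morphisms.FiniteType
import Mathlib.AlgebraicGeometry.Properties
import Mathlib.RingTheory.Etale.Field
import Mathlib.RingTheory.Jacobson.Artinian
import Mathlib.RingTheory.Unramified.Pi
import Mathlib.FieldTheory.IsAlgClosed.AlgebraicClosure
import Groth.Agent.S9697

/-!
# Unramified morphisms and geometric fibres
-/

set_option autoImplicit false
set_option linter.style.haveILetI false

universe u

open CategoryTheory Limits AlgebraicGeometry TopologicalSpace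

namespace Groth.Agent.UnramGeo12

theorem formallyUnramified_of_discrete_reduced (K A : Type u) [Field K] [PerfectField K] [CommRing A]
    [Algebra K A] [Algebra.FiniteType K A] [_root_.IsReduced A] [DiscreteTopology (PrimeSpectrum A)] :
    Algebra.FormallyUnramified K A := by
  haveI : IsNoetherianRing A := Algebra.FiniteType.isNoetherianRing K A
  haveI : Ring.KrullDimLE 0 A := Ring.krullDimLE_zero_iff.2 fun p hp => by
    haveI : T1Space (PrimeSpectrum A) := inferInstance
    exact (PrimeSpectrum.isClosed_singleton_iff_isMaximal ⟨p, hp⟩).1 isClosed_singleton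
  haveI : IsArtinianRing A := isArtinianRing_iff_isNoetherianRing_krullDimLE_zero.2 ⟨inferInstance, inferInstance⟩
  haveI : Module.Finite K A := Module.finite_of_isArtinianRing K A
  haveI : ∀ I : MaximalSpectrum A, Algebra.FormallyUnramified K (A ⧸ I.asIdeal) := fun I => by
    letI := Ideal.Quotient.field I.asIdeal
    haveI : Algebra.IsSeparable K (A ⧸ I.asIdeal) := Algebra.IsAlgebraic.isSeparable_of_perfectField
    exact Algebra.FormallyUnramified.of_isSeparable K _
  exact Algebra.FormallyUnramified.of_equiv ((IsArtinianRing.equivPi A).symm.restrictScalars K)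

theorem discrete_of_formallyUnramified (K A : Type u) [Field K] [CommRing A]
    [Algebra K A] [Algebra.FiniteType K A] [Algebra.FormallyUnramified K A] :
    DiscreteTopology (PrimeSpectrum A) := by
  haveI : Module.Finite K A := Algebra.FormallyUnramified.finite_of_free K A
  haveI : IsArtinianRing A := IsArtinianRing.of_finite K A
  exact (inferInstance : DiscreteTopology (PrimeSpectrum A))

variable {K : Type u} [Field K] {P : Scheme.{u}} (π : P ⟶ Spec (CommRingCat.of K))

theorem chart_iso_ringHom {U : P.Opens} (hU : IsAffineOpen U) :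
    ∃ φ : K →+* Γ(P, U), ([LocallyOfFiniteType π] → φ.FiniteType) ∧
      (FormallyUnramified π → φ.FormallyUnramified) ∧
      (φ.FormallyUnramified → FormallyUnramified (U.ι ≫ π)) := by
  refine ⟨(π.appLE ⊤ U (by simp)).hom.comp (Scheme.ΓSpecIso (CommRingCat.of K)).inv.hom, ?_, ?_, ?_⟩
  · intro _
    exact (π.finiteType_appLE (isAffineOpen_top _) hU (by simp)).comp
      (RingHom.FiniteType.of_surjective _ (ConcreteCategory.bijective_of_isIso (Scheme.ΓSpecIso (CommRingCat.of K)).inv).2)
  · intro h
    exact RingHom.FormallyUnramified.stableUnderComposition _ _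
      (RingHom.FormallyUnramified.of_surjective (ConcreteCategory.bijective_of_isIso (Scheme.ΓSpecIso (CommRingCat.of K)).inv).2)
      (HasRingHomProperty.appLE @FormallyUnramified π h ⟨⊤, isAffineOpen_top _⟩ ⟨U, hU⟩ (by simp))
  · intro h
    have e : U.ι ≫ π = hU.isoSpec.hom ≫ Spec.map (CommRingCat.ofHom
        ((π.appLE ⊤ U (by simp)).hom.comp (Scheme.ΓSpecIso (CommRingCat.of K)).inv.hom)) := by
      have h2 : CommRingCat.ofHom ((π.appLE ⊤ U (by simp)).hom.comp (Scheme.ΓSpecIso (CommRingCat.of K)).inv.hom) =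
          (Scheme.ΓSpecIso (CommRingCat.of K)).inv ≫ π.appLE ⊤ U (by simp) := rfl
      have h3 := IsAffineOpen.SpecMap_appLE_fromSpec π (isAffineOpen_top _) hU (show U ≤ π ⁻¹ᵁ ⊤ by simp)
      rw [IsAffineOpen.fromSpec_top, Scheme.isoSpec_Spec_inv] at h3
      rw [h2, Spec.map_comp, h3, ← hU.isoSpec_inv_ι]
      simp
    rw [e, MorphismProperty.cancel_left_of_respectsIso @FormallyUnramified, HasRingHomProperty.Spec_iff (P := @FormallyUnramified)]
    exact h

theorem formallyUnramified_iff_reduced_discrete [IsAlgClosed K] [LocallyOfFiniteType π] :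
    FormallyUnramified π ↔ IsReduced P ∧ DiscreteTopology P := by
  have hd : ∀ (U : P.Opens) (hU : IsAffineOpen U), DiscreteTopology U ↔ DiscreteTopology (PrimeSpectrum Γ(P, U)) :=
    fun U hU => hU.isoSpec.hom.homeomorph.discreteTopology_iff
  refine ⟨fun h => ⟨?_, ?_⟩, fun ⟨h1, h2⟩ => ?_⟩
  · haveI : ∀ x : P, _root_.IsReduced (P.presheaf.stalk x) := fun x => by
      obtain ⟨U, hU, hxU, -⟩ := exists_isAffineOpen_mem_and_subset (X := P) (x := x) (U := ⊤) trivial
      obtain ⟨φ, hft, hfu, -⟩ := chart_iso_ringHom π hU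
      algebraize [φ]
      haveI : Algebra.FiniteType K Γ(P, U) := hft
      haveI : Algebra.FormallyUnramified K Γ(P, U) := hfu h
      haveI := Algebra.FormallyUnramified.isReduced_of_field K Γ(P, U)
      haveI : IsReduced (U : Scheme.{u}) := isReduced_of_isOpenImmersion hU.isoSpec.hom
      exact isReduced_of_injective (U.stalkIso ⟨x, hxU⟩).inv.hom
        (U.stalkIso ⟨x, hxU⟩).symm.commRingCatIsoToRingEquiv.injective
    exact isReduced_of_isReduced_stalk P
  · refine discreteTopology_iff_isOpen_singleton.2 fun x => ?_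
    obtain ⟨U, hU, hxU, -⟩ := exists_isAffineOpen_mem_and_subset (X := P) (x := x) (U := ⊤) trivial
    obtain ⟨φ, hft, hfu, -⟩ := chart_iso_ringHom π hU
    algebraize [φ]
    haveI : Algebra.FiniteType K Γ(P, U) := hft
    haveI : Algebra.FormallyUnramified K Γ(P, U) := hfu h
    haveI : DiscreteTopology {y // y ∈ (U : Set P)} := (hd U hU).2 (discrete_of_formallyUnramified K Γ(P, U))
    rw [show ({x} : Set P) = Subtype.val '' ({⟨x, hxU⟩} : Set U) from (Set.image_singleton (f := Subtype.val) (a := (⟨x, hxU⟩ : U))).symm]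
    exact U.isOpen.isOpenMap_subtype_val _ (isOpen_discrete _)
  · rw [IsZariskiLocalAtSource.iff_of_iSup_eq_top (P := @FormallyUnramified) _ (AlgebraicGeometry.iSup_affineOpens_eq_top P)]
    intro U
    obtain ⟨φ, hft, -, hfu⟩ := chart_iso_ringHom π U.2
    refine hfu ?_
    algebraize [φ]
    haveI : Algebra.FiniteType K Γ(P, U.1) := hft
    haveI : DiscreteTopology U.1 := inferInstanceAs (DiscreteTopology (U.1 : Set P))
    haveI := (hd U.1 U.2).1 inferInstance
    exact formallyUnramified_of_discrete_reduced K Γ(P, U.1)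

theorem exists_nhd_of_geometricFibre {X S : Scheme.{u}} (f : X ⟶ S) [LocallyOfFiniteType f] (x : X)
    (K : Type u) [Field K] [IsAlgClosed K] (i : S.residueField (f x) →+* K)
    (h : IsReduced (pullback f (Spec.map (CommRingCat.ofHom i) ≫ S.fromSpecResidueField (f x))) ∧
      DiscreteTopology ↥(pullback f (Spec.map (CommRingCat.ofHom i) ≫ S.fromSpecResidueField (f x)))) :
    ∃ U : X.Opens, x ∈ U ∧ FormallyUnramified (U.ι ≫ f) := by
  generalize hσ : Spec.map (CommRingCat.ofHom i) ≫ S.fromSpecResidueField (f x) = s at h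
  have hs : s (IsLocalRing.closedPoint K) = f x := by
    rw [← hσ, Scheme.Hom.comp_apply]
    exact Scheme.fromSpecResidueField_apply _ _
  obtain ⟨z, hz, -⟩ := Scheme.Pullback.exists_preimage_pullback (f := f) (g := s) x (IsLocalRing.closedPoint K) hs.symm
  haveI := (formallyUnramified_iff_reduced_discrete (pullback.snd f s)).2 h
  obtain ⟨U, hU, hfu⟩ := (Groth.Agent.S9697.result f s z).1 ⟨⊤, trivial, IsZariskiLocalAtSource.comp (P := @FormallyUnramified) ‹FormallyUnramified (pullback.snd f s)› _⟩
  exact ⟨U, hz ▸ hU, hfu⟩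

theorem formallyUnramified_iff_geometricFibres {X S : Scheme.{u}} (f : X ⟶ S) [LocallyOfFiniteType f] :
    FormallyUnramified f ↔
      ∀ (K : Type u) [Field K] [IsAlgClosed K] (s : Spec (CommRingCat.of K) ⟶ S),
        IsReduced (pullback f s) ∧ DiscreteTopology ↥(pullback f s) := by
  refine ⟨fun h K _ _ s => (formallyUnramified_iff_reduced_discrete (pullback.snd f s)).1 (MorphismProperty.pullback_snd (P := @FormallyUnramified) f s h), fun h => ?_⟩
  have hx : ∀ x : X, ∃ U : X.Opens, x ∈ U ∧ FormallyUnramified (U.ι ≫ f) := fun x => by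
    exact exists_nhd_of_geometricFibre f x (AlgebraicClosure (S.residueField (f x)))
      (algebraMap (S.residueField (f x)) (AlgebraicClosure (S.residueField (f x)))) (h _ _)
  choose U hU hfu using hx
  exact (IsZariskiLocalAtSource.iff_of_iSup_eq_top (P := @FormallyUnramified) U
    (Opens.ext (Set.eq_univ_of_forall fun x => Opens.mem_iSup.2 ⟨x, hU x⟩))).2 hfu

end Groth.Agent.UnramGeo12
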