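import Groth.Agent.Lib.UnramGeo12.Basic
import Mathlib.Algebra.DualNumber
import Mathlib.RingTheory.Kaehler.Basic
import Mathlib.RingTheory.Jacobson.Ring

/-!
# Unramified over an algebraically closed field via dual numbers
-/

set_option autoImplicit false
set_option linter.style.haveILetI false

universe u

open CategoryTheory Limits AlgebraicGeometry TopologicalSpace TrivSqZeroExt

namespace Groth.Agent.UnramGeo12

variable (k : Type u) [Field k]

theorem isNilpotent_of_mul_eq_zero {R : Type u} [CommRing R] (I : Ideal R)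
    (h : ∀ a ∈ I, ∀ b ∈ I, a * b = 0) : IsNilpotent I := by
  refine ⟨2, ?_⟩
  rw [pow_two, Ideal.zero_eq_bot, eq_bot_iff, Ideal.mul_le]
  exact fun a ha b hb => Ideal.mem_bot.2 (h a ha b hb)

theorem isNilpotent_ker_fst : IsNilpotent (RingHom.ker (fstHom k k k).toRingHom) :=
  isNilpotent_of_mul_eq_zero (R := DualNumber k) _ fun a ha b hb => by
    have ha' : a.fst = 0 := ha
    have hb' : b.fst = 0 := hb
    ext <;> simp [ha', hb']

/-- A derivation into a residue field as a point on dual numbers. -/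
def derivPoint {A : Type u} [CommRing A] [Algebra k A] [Algebra A k] [IsScalarTower k A k]
    (D : Derivation k A k) : A →ₐ[k] DualNumber k where
  toFun a := inl (algebraMap A k a) + inr (D a)
  map_one' := by ext <;> simp
  map_mul' a b := by
    ext
    · simp
    · simp [D.leibniz, TrivSqZeroExt.snd_mul, Algebra.smul_def (R := A) (A := k)]; ring
  map_zero' := by ext <;> simp
  map_add' a b := by ext <;> simp
  commutes' r := by ext <;> simp [← IsScalarTower.algebraMap_apply, algebraMap_eq_inl]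

theorem exists_two_points [IsAlgClosed k] {A : Type u} [CommRing A] [Algebra k A] [Algebra.FiniteType k A]
    (h : ¬ Algebra.FormallyUnramified k A) :
    ∃ g₁ g₂ : A →ₐ[k] DualNumber k, g₁ ≠ g₂ ∧ (fstHom k k k).comp g₁ = (fstHom k k k).comp g₂ := by
  rw [Algebra.formallyUnramified_iff] at h
  haveI : Nontrivial Ω[A⁄k] := not_subsingleton_iff_nontrivial.1 h
  obtain ⟨m, hm, hne⟩ : ∃ m : Ideal A, m.IsMaximal ∧ m • (⊤ : Submodule A Ω[A⁄k]) ≠ ⊤ := by
    by_contra hc
    push_neg at hc
    haveI : Module.Finite A Ω[A⁄k] := inferInstance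
    have hann : Module.annihilator A Ω[A⁄k] ≠ ⊤ := by
      rw [Ne, Module.annihilator_eq_top_iff]
      exact not_subsingleton _
    obtain ⟨m, hm, hle⟩ := Ideal.exists_le_maximal _ hann
    obtain ⟨r, hr1, hr2⟩ := Submodule.exists_sub_one_mem_and_smul_eq_zero_of_fg_of_le_smul m
      (⊤ : Submodule A Ω[A⁄k]) Module.Finite.fg_top (hc m hm).ge
    have hrm : r ∈ m := hle (Module.mem_annihilator.2 fun x => hr2 x trivial)
    exact hm.ne_top ((Ideal.eq_top_iff_one m).2 (by simpa using m.sub_mem hrm hr1))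
  haveI := hm
  letI := Ideal.Quotient.field m
  haveI : Module.Finite k (A ⧸ m) := finite_of_finite_type_of_isJacobsonRing k (A ⧸ m)
  let e : k ≃ₐ[k] A ⧸ m := AlgEquiv.ofBijective (Algebra.ofId k (A ⧸ m))
    IsAlgClosed.algebraMap_bijective_of_isIntegral
  letI : Algebra A k := (e.symm.toRingHom.comp (Ideal.Quotient.mk m)).toAlgebra
  haveI : IsScalarTower k A k := IsScalarTower.of_algebraMap_eq fun r => (e.symm.commutes r).symm
  let V := Ω[A⁄k] ⧸ m • (⊤ : Submodule A Ω[A⁄k])
  haveI : Nontrivial V := Submodule.Quotient.nontrivial_iff.2 hne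
  obtain ⟨v, hv⟩ := exists_ne (0 : V)
  obtain ⟨φ, hφ⟩ : ∃ φ : V →ₗ[A ⧸ m] A ⧸ m, φ v ≠ 0 := by
    obtain ⟨φ, hφ⟩ := Module.Projective.exists_dual_ne_zero (A ⧸ m) hv
    exact ⟨φ, hφ⟩
  let l : Ω[A⁄k] →ₗ[A] k :=
    { toFun := fun x => e.symm (φ (Submodule.Quotient.mk x))
      map_add' := fun x y => by simp
      map_smul' := fun a x => by
        show e.symm (φ (Submodule.Quotient.mk (a • x))) = (e.symm (Ideal.Quotient.mk m a)) * _
        rw [Submodule.Quotient.mk_smul, show a • (Submodule.Quotient.mk x : V) =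
          (Ideal.Quotient.mk m a) • (Submodule.Quotient.mk x : V) from rfl, map_smul, smul_eq_mul, map_mul] }
  let D := KaehlerDifferential.linearMapEquivDerivation k A l
  refine ⟨derivPoint k (0 : Derivation k A k), derivPoint k D, fun heq => ?_, AlgHom.ext fun a => by simp [derivPoint]⟩
  have hD : D = 0 := Derivation.ext fun a => by
    have := congrArg TrivSqZeroExt.snd (AlgHom.congr_fun heq a)
    simpa [derivPoint] using this.symm
  have hl : l = 0 := by
    rw [← LinearEquiv.map_eq_zero_iff (KaehlerDifferential.linearMapEquivDerivation k A)]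
    exact hD
  obtain ⟨x, rfl⟩ := Submodule.Quotient.mk_surjective _ v
  have h0 : e.symm (φ (Submodule.Quotient.mk x)) = 0 := LinearMap.congr_fun hl x
  exact hφ (e.symm.injective (h0.trans (map_zero e.symm).symm))

variable {k}

theorem range_dualNumber {X : Scheme.{u}} (v : Spec (CommRingCat.of (DualNumber k)) ⟶ X) (V : X.Opens)
    (y : Spec (CommRingCat.of k))
    (h : (Spec.map (CommRingCat.ofHom (fstHom k k k).toRingHom) ≫ v) y ∈ V) :
    Set.range v ⊆ V := by
  rintro _ ⟨z, rfl⟩
  have hz : z = Spec.map (CommRingCat.ofHom (fstHom k k k).toRingHom) y := by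
    haveI : Subsingleton (PrimeSpectrum (DualNumber k)) := by
      refine ⟨fun a b => PrimeSpectrum.ext ?_⟩
      have key : ∀ p : PrimeSpectrum (DualNumber k), p.asIdeal = RingHom.ker (fstHom k k k).toRingHom := by
        intro p
        obtain ⟨n, hn⟩ := isNilpotent_ker_fst k
        have hle : RingHom.ker (fstHom k k k).toRingHom ≤ p.asIdeal :=
          Ideal.IsPrime.le_of_pow_le (n := n) (by rw [hn]; exact bot_le)
        haveI : (RingHom.ker (fstHom k k k).toRingHom).IsMaximal :=
          RingHom.ker_isMaximal_of_surjective _ fun c => ⟨inl c, rfl⟩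
        exact (Ideal.IsMaximal.eq_of_le inferInstance p.isPrime.ne_top hle).symm
      rw [key a, key b]
    exact Subsingleton.elim (α := PrimeSpectrum (DualNumber k)) _ _
  rw [hz, ← Scheme.Hom.comp_apply]
  exact h

set_option backward.isDefEq.respectTransparency false in
set_option backward.isDefEq.respectTransparency.types false in
theorem formallyUnramified_iff_dualNumber [IsAlgClosed k] {X : Scheme.{u}} (p : X ⟶ Spec (CommRingCat.of k))
    [LocallyOfFiniteType p] :
    FormallyUnramified p ↔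
      ∀ v₁ v₂ : Spec (CommRingCat.of (DualNumber k)) ⟶ X,
        v₁ ≫ p = Spec.map (CommRingCat.ofHom (algebraMap k (DualNumber k))) →
        v₂ ≫ p = Spec.map (CommRingCat.ofHom (algebraMap k (DualNumber k))) →
        Spec.map (CommRingCat.ofHom (fstHom k k k).toRingHom) ≫ v₁ =
          Spec.map (CommRingCat.ofHom (fstHom k k k).toRingHom) ≫ v₂ →
        v₁ = v₂ := by
  have hch : ∀ (V : X.Opens) (hV : IsAffineOpen V), ∃ φ : k →+* Γ(X, V), φ.FiniteType ∧
      (FormallyUnramified p → φ.FormallyUnramified) ∧ (φ.FormallyUnramified → FormallyUnramified (V.ι ≫ p)) ∧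
      hV.fromSpec ≫ p = Spec.map (CommRingCat.ofHom φ) := by
    intro V hV
    refine ⟨(Spec.preimage (hV.fromSpec ≫ p)).hom, ?_, fun h => ?_, fun h => ?_, by simp⟩
    · rw [← HasRingHomProperty.Spec_iff (P := @LocallyOfFiniteType), Spec.map_preimage]
      infer_instance
    · rw [← HasRingHomProperty.Spec_iff (P := @FormallyUnramified), Spec.map_preimage]
      exact IsZariskiLocalAtSource.comp (P := @FormallyUnramified) h hV.fromSpec
    · rw [← HasRingHomProperty.Spec_iff (P := @FormallyUnramified), Spec.map_preimage] at h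
      have : V.ι ≫ p = hV.isoSpec.hom ≫ hV.fromSpec ≫ p := by
        rw [← hV.isoSpec_inv_ι]; simp
      rw [this, MorphismProperty.cancel_left_of_respectsIso @FormallyUnramified]
      exact h
  constructor
  · intro hp v₁ v₂ h₁ h₂ h12
    obtain ⟨y⟩ : Nonempty (Spec (CommRingCat.of k)) := ⟨IsLocalRing.closedPoint k⟩
    obtain ⟨V, hV, hyV, -⟩ := exists_isAffineOpen_mem_and_subset (X := X)
      (x := (Spec.map (CommRingCat.ofHom (fstHom k k k).toRingHom) ≫ v₁) y) (U := ⊤) trivial
    obtain ⟨φ, -, hfu, -, hφ⟩ := hch V hV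
    obtain ⟨g₁, hg₁⟩ := Spec.map_surjective (IsOpenImmersion.lift hV.fromSpec v₁
      (by rw [hV.range_fromSpec]; exact range_dualNumber v₁ V y hyV))
    obtain ⟨g₂, hg₂⟩ := Spec.map_surjective (IsOpenImmersion.lift hV.fromSpec v₂
      (by rw [hV.range_fromSpec]; exact range_dualNumber v₂ V y (h12 ▸ hyV)))
    have e₁ : v₁ = Spec.map g₁ ≫ hV.fromSpec := by rw [hg₁, IsOpenImmersion.lift_fac]
    have e₂ : v₂ = Spec.map g₂ ≫ hV.fromSpec := by rw [hg₂, IsOpenImmersion.lift_fac]
    rw [e₁, Category.assoc, hφ, ← Spec.map_comp] at h₁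
    rw [e₂, Category.assoc, hφ, ← Spec.map_comp] at h₂
    rw [e₁, e₂, ← Category.assoc, ← Category.assoc, cancel_mono, ← Spec.map_comp, ← Spec.map_comp] at h12
    have h₁' := Spec.map_inj.1 h₁
    have h₂' := Spec.map_inj.1 h₂
    have h12' := Spec.map_inj.1 h12
    letI := φ.toAlgebra
    haveI : Algebra.FormallyUnramified k Γ(X, V) := hfu hp
    let G₁ : Γ(X, V) →ₐ[k] DualNumber k := ⟨g₁.hom, fun r => congrArg (fun t => t.hom r) h₁'⟩
    let G₂ : Γ(X, V) →ₐ[k] DualNumber k := ⟨g₂.hom, fun r => congrArg (fun t => t.hom r) h₂'⟩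
    have hG : G₁ = G₂ := Algebra.FormallyUnramified.ext' (fstHom k k k).toRingHom (isNilpotent_ker_fst k) G₁ G₂
      fun x => congrArg (fun t => t.hom x) h12'
    rw [e₁, e₂, show g₁ = g₂ from CommRingCat.hom_ext (congrArg AlgHom.toRingHom hG)]
  · intro H
    rw [IsZariskiLocalAtSource.iff_of_iSup_eq_top (P := @FormallyUnramified) _
      (AlgebraicGeometry.iSup_affineOpens_eq_top X)]
    intro V
    obtain ⟨φ, hft, -, hfu, hφ⟩ := hch V.1 V.2
    refine hfu ?_
    letI := φ.toAlgebra
    haveI : Algebra.FiniteType k Γ(X, V.1) := hft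
    by_contra hn
    obtain ⟨g₁, g₂, hne, h12⟩ := exists_two_points k (A := Γ(X, V.1)) hn
    refine hne (AlgHom.coe_ringHom_injective ?_)
    have hv : ∀ g : Γ(X, V.1) →ₐ[k] DualNumber k,
        (Spec.map (CommRingCat.ofHom g.toRingHom) ≫ V.2.fromSpec) ≫ p =
          Spec.map (CommRingCat.ofHom (algebraMap k (DualNumber k))) := fun g => by
      rw [Category.assoc, hφ, ← Spec.map_comp, ← CommRingCat.ofHom_comp]
      congr 2
      exact RingHom.ext fun r => g.commutes r
    have := H (Spec.map (CommRingCat.ofHom g₁.toRingHom) ≫ V.2.fromSpec)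
      (Spec.map (CommRingCat.ofHom g₂.toRingHom) ≫ V.2.fromSpec) (hv g₁) (hv g₂) (by
        rw [← Category.assoc, ← Category.assoc, ← Spec.map_comp, ← Spec.map_comp, ← CommRingCat.ofHom_comp,
          ← CommRingCat.ofHom_comp,
          show (fstHom k k k).toRingHom.comp g₁.toRingHom = (fstHom k k k).toRingHom.comp g₂.toRingHom from
            RingHom.ext fun a => AlgHom.congr_fun h12 a])
    rw [cancel_mono, Spec.map_inj] at this
    exact congrArg CommRingCat.Hom.hom this

end Groth.Agent.UnramGeo12
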